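import Groth.Agent.LA96.ProjStalk3
import Groth.Agent.LC.GorRing

/-!
# Stalks of `Proj` when there is a unit of degree one
-/

set_option autoImplicit false

universe u

open DirectSum IsLocalRing Polynomial

namespace Groth.Agent.MiscTwoH99.ProjGor

variable {A : Type u} [CommRing A] (𝒜 : ℕ → AddSubgroup A) [GradedRing 𝒜] (p : Ideal A) [p.IsPrime]

theorem mk_mul_den (q : HomogeneousLocalization.NumDenSameDeg 𝒜 p.primeCompl) :
    (algebraMap (HomogeneousLocalization.AtPrime 𝒜 p) (Localization.AtPrime p)) (HomogeneousLocalization.mk q) * (algebraMap A (Localization.AtPrime p)) (q.den : A) = (algebraMap A (Localization.AtPrime p)) (q.num : A) := by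
  rw [HomogeneousLocalization.algebraMap_apply, HomogeneousLocalization.val_mk, Localization.mk_eq_mk']
  exact IsLocalization.mk'_spec' (Localization.AtPrime p) (q.num : A) (⟨q.den, q.den_mem⟩ : p.primeCompl) ▸ mul_comm _ _

theorem isUnit_phi {a : A} (ha : a ∉ p) : IsUnit ((algebraMap A (Localization.AtPrime p)) a) :=
  IsLocalization.map_units (Localization.AtPrime p) (⟨a, ha⟩ : p.primeCompl)

variable {d : ℕ} {f g : A} (hf : f ∈ 𝒜 d) (hfp : f ∉ p) (hg : g ∈ 𝒜 (d + 1)) (hgp : g ∉ p)
  (u : (Localization.AtPrime p)) (hu : u * (algebraMap A (Localization.AtPrime p)) f = (algebraMap A (Localization.AtPrime p)) g)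

include hf hg hgp hu hfp in
theorem exists_coeff {i : ℕ} {a : A} (ha : a ∈ 𝒜 i) : ∃ h : (HomogeneousLocalization.AtPrime 𝒜 p), (algebraMap (HomogeneousLocalization.AtPrime 𝒜 p) (Localization.AtPrime p)) h * u ^ i = (algebraMap A (Localization.AtPrime p)) a := by
  have hnum : a * f ^ i ∈ 𝒜 (i * (d + 1)) := by
    rw [show i * (d + 1) = i + i * d by ring]
    exact SetLike.mul_mem_graded ha (by simpa using SetLike.pow_mem_graded i hf)
  have hden : g ^ i ∈ 𝒜 (i * (d + 1)) := by simpa using SetLike.pow_mem_graded i hg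
  let q : HomogeneousLocalization.NumDenSameDeg 𝒜 p.primeCompl :=
    ⟨i * (d + 1), ⟨_, hnum⟩, ⟨_, hden⟩, Submonoid.pow_mem _ (show g ∈ p.primeCompl from hgp) i⟩
  refine ⟨HomogeneousLocalization.mk q, ((isUnit_phi p hfp).pow i).mul_right_cancel ?_⟩
  rw [mul_assoc, ← mul_pow, hu, ← map_pow, ← map_pow, ← map_mul]
  exact mk_mul_den 𝒜 p q

include hf hg hfp hu in
theorem exists_common (N : ℕ) (h : ℕ → (HomogeneousLocalization.AtPrime 𝒜 p)) : ∃ (E : ℕ) (F : A), F ∉ p ∧
    ∀ i ≤ N, ∃ Y ∈ 𝒜 (E + i), (algebraMap (HomogeneousLocalization.AtPrime 𝒜 p) (Localization.AtPrime p)) (h i) * u ^ i * (algebraMap A (Localization.AtPrime p)) F = (algebraMap A (Localization.AtPrime p)) Y := by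
  classical
  choose r hr using fun i => HomogeneousLocalization.mk_surjective (h i)
  let Den := ∏ l ∈ Finset.range (N + 1), ((r l).den : A)
  refine ⟨(∑ l ∈ Finset.range (N + 1), (r l).deg) + N * d, Den * f ^ N,
    Submonoid.mul_mem p.primeCompl (prod_mem fun l _ => (r l).den_mem) (Submonoid.pow_mem _ hfp N), fun i hi => ?_⟩
  have hiN : i ∈ Finset.range (N + 1) := Finset.mem_range.mpr (by omega)
  refine ⟨((r i).num : A) * (∏ l ∈ (Finset.range (N + 1)).erase i, ((r l).den : A)) * (g ^ i * f ^ (N - i)), ?_, ?_⟩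
  · rw [show (∑ l ∈ Finset.range (N + 1), (r l).deg) + N * d + i =
      ((r i).deg + ∑ l ∈ (Finset.range (N + 1)).erase i, (r l).deg) + (i * (d + 1) + (N - i) * d) by
        rw [Finset.add_sum_erase _ (fun l => (r l).deg) hiN]
        obtain ⟨c, rfl⟩ := Nat.exists_eq_add_of_le hi
        rw [Nat.add_sub_cancel_left]
        ring]
    exact SetLike.mul_mem_graded (SetLike.mul_mem_graded (r i).num.2 (SetLike.prod_mem_graded _ _ _ fun l _ => (r l).den.2))
      (SetLike.mul_mem_graded (by simpa using SetLike.pow_mem_graded i hg) (by simpa using SetLike.pow_mem_graded (N - i) hf))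
  · simp only [Den]
    rw [← Finset.mul_prod_erase _ _ hiN, ← hr i]
    simp only [map_mul, map_pow, ← mk_mul_den 𝒜 p (r i), ← hu, mul_pow]
    rw [← pow_mul_pow_sub ((algebraMap A (Localization.AtPrime p)) f) hi]
    ring

include hf hg hgp hu hfp in
theorem isLocalization_polynomial (hinj : Function.Injective (algebraMap (HomogeneousLocalization.AtPrime 𝒜 p) (Localization.AtPrime p))) :
    letI := ((eval₂RingHom (algebraMap (HomogeneousLocalization.AtPrime 𝒜 p) (Localization.AtPrime p)) u : (HomogeneousLocalization.AtPrime 𝒜 p)[X] →+* (Localization.AtPrime p))).toAlgebra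
    IsLocalization ((IsUnit.submonoid (Localization.AtPrime p)).comap (eval₂RingHom (algebraMap (HomogeneousLocalization.AtPrime 𝒜 p) (Localization.AtPrime p)) u : (HomogeneousLocalization.AtPrime 𝒜 p)[X] →+* (Localization.AtPrime p)).toMonoidHom) (Localization.AtPrime p) := by
  classical
  letI := ((eval₂RingHom (algebraMap (HomogeneousLocalization.AtPrime 𝒜 p) (Localization.AtPrime p)) u : (HomogeneousLocalization.AtPrime 𝒜 p)[X] →+* (Localization.AtPrime p))).toAlgebra
  have hu' : IsUnit u := by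
    refine isUnit_of_mul_isUnit_left (y := (algebraMap A (Localization.AtPrime p)) f) ?_
    rw [hu]
    exact isUnit_phi p hgp
  have lift : ∀ a : A, ∃ P : (HomogeneousLocalization.AtPrime 𝒜 p)[X], eval₂ (algebraMap (HomogeneousLocalization.AtPrime 𝒜 p) (Localization.AtPrime p)) u P = (algebraMap A (Localization.AtPrime p)) a ∧
      ∀ j, (algebraMap (HomogeneousLocalization.AtPrime 𝒜 p) (Localization.AtPrime p)) (P.coeff j) * u ^ j = (algebraMap A (Localization.AtPrime p)) (decompose 𝒜 a j : A) := by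
    intro a
    choose h hh using fun j => exists_coeff 𝒜 p hf hfp hg hgp u hu (SetLike.coe_mem (decompose 𝒜 a j))
    refine ⟨∑ j ∈ (decompose 𝒜 a).support, Polynomial.C (h j) * X ^ j, ?_, fun j => ?_⟩
    · rw [eval₂_finsetSum]
      conv_rhs => rw [← DirectSum.sum_support_decompose 𝒜 a, map_sum]
      exact Finset.sum_congr rfl fun j _ => by rw [eval₂_mul, eval₂_C, eval₂_X_pow]; exact hh j
    · simp only [finsetSum_coeff, coeff_C_mul_X_pow]
      rw [Finset.sum_ite_eq]
      split_ifs with hj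
      · exact hh j
      · rw [DFinsupp.notMem_support_iff] at hj
        simp [hj]
  have hker : ∀ P : (HomogeneousLocalization.AtPrime 𝒜 p)[X], eval₂ (algebraMap (HomogeneousLocalization.AtPrime 𝒜 p) (Localization.AtPrime p)) u P = 0 → ∃ Q, IsUnit (eval₂ (algebraMap (HomogeneousLocalization.AtPrime 𝒜 p) (Localization.AtPrime p)) u Q) ∧ Q * P = 0 := by
    intro P hP
    set N := P.natDegree
    obtain ⟨E, F, hF, hY⟩ := exists_common 𝒜 p hf hfp hg u hu N fun i => P.coeff i
    choose! Y hYd hYe using hY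
    have hsum : (algebraMap A (Localization.AtPrime p)) (∑ i ∈ Finset.range (N + 1), Y i) = (algebraMap A (Localization.AtPrime p)) 0 := by
      rw [map_sum, map_zero, Finset.sum_congr rfl fun i hi => (hYe i (by rw [Finset.mem_range] at hi; omega)).symm,
        ← Finset.sum_mul, ← eval₂_eq_sum_range, hP, zero_mul]
    obtain ⟨s, hs⟩ := (IsLocalization.eq_iff_exists p.primeCompl (Localization.AtPrime p)).mp hsum
    rw [mul_zero] at hs
    obtain ⟨Q, hQe, hQc⟩ := lift (s : A)
    refine ⟨Q, by rw [hQe]; exact isUnit_phi p s.2, Polynomial.ext fun m => ?_⟩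
    rw [coeff_zero]
    refine hinj ?_
    rw [map_zero]
    refine ((hu'.pow m).mul (isUnit_phi p hF)).mul_left_eq_zero.mp ?_
    have h1 := congrArg (GradedRing.proj 𝒜 (E + m)) hs
    rw [map_zero, Finset.mul_sum, map_sum] at h1
    rw [mul_comm Q, coeff_mul, Finset.Nat.sum_antidiagonal_eq_sum_range_succ_mk, map_sum, Finset.sum_mul]
    rw [← map_zero (algebraMap A (Localization.AtPrime p)), ← h1, map_sum]
    have hext : ∑ i ∈ Finset.range (m + 1), (algebraMap (HomogeneousLocalization.AtPrime 𝒜 p) (Localization.AtPrime p)) (P.coeff i * Q.coeff (m - i)) * (u ^ m * (algebraMap A (Localization.AtPrime p)) F) =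
        ∑ i ∈ Finset.range (N + 1), if i ≤ m then (algebraMap (HomogeneousLocalization.AtPrime 𝒜 p) (Localization.AtPrime p)) (P.coeff i * Q.coeff (m - i)) * (u ^ m * (algebraMap A (Localization.AtPrime p)) F) else 0 := by
      rw [← Finset.sum_filter]
      refine Finset.sum_subset_zero_on_sdiff (fun i hi => ?_) (fun i hi => ?_) (fun _ _ => rfl) |>.symm
      · simp only [Finset.mem_filter, Finset.mem_range] at hi ⊢; omega
      · simp only [Finset.mem_sdiff, Finset.mem_filter, Finset.mem_range, not_and] at hi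
        rw [Polynomial.coeff_eq_zero_of_natDegree_lt (show N < i by omega), zero_mul, map_zero, zero_mul]
    rw [hext]
    refine Finset.sum_congr rfl fun i hi => ?_
    rw [Finset.mem_range] at hi
    rw [GradedRing.proj_apply, DirectSum.coe_decompose_mul_of_right_mem 𝒜 (E + m) (hYd i (by omega))]
    simp only [add_le_add_iff_left]
    split_ifs with him
    · rw [show E + m - (E + i) = m - i by omega, map_mul (algebraMap A (Localization.AtPrime p)), ← hYe i (by omega), ← hQc (m - i),
        ← pow_sub_mul_pow u him, map_mul]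
      ring
    · rw [map_zero]
  refine ⟨⟨fun y => y.2, fun z => ?_, fun {a b} hab => ?_⟩⟩
  · obtain ⟨⟨a, b⟩, hab⟩ := IsLocalization.surj p.primeCompl z
    obtain ⟨P, hP, -⟩ := lift a
    obtain ⟨Q, hQ, -⟩ := lift (b : A)
    refine ⟨⟨P, ⟨Q, ?_⟩⟩, ?_⟩
    · show IsUnit (eval₂ (algebraMap (HomogeneousLocalization.AtPrime 𝒜 p) (Localization.AtPrime p)) u Q)
      rw [hQ]; exact isUnit_phi p b.2
    · show z * eval₂ (algebraMap (HomogeneousLocalization.AtPrime 𝒜 p) (Localization.AtPrime p)) u Q = eval₂ (algebraMap (HomogeneousLocalization.AtPrime 𝒜 p) (Localization.AtPrime p)) u P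
      rw [hQ, hP]; exact hab
  · have h0 : eval₂ (algebraMap (HomogeneousLocalization.AtPrime 𝒜 p) (Localization.AtPrime p)) u (a - b) = 0 := by
      rw [eval₂_sub, sub_eq_zero]
      exact hab
    obtain ⟨Q, hQ, hQz⟩ := hker _ h0
    refine ⟨⟨Q, hQ⟩, ?_⟩
    rw [mul_sub, sub_eq_zero] at hQz
    exact hQz

include hf hg hgp hu hfp in
theorem flat (hinj : Function.Injective (algebraMap (HomogeneousLocalization.AtPrime 𝒜 p) (Localization.AtPrime p))) : Module.Flat (HomogeneousLocalization.AtPrime 𝒜 p) (Localization.AtPrime p) := by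
  letI := ((eval₂RingHom (algebraMap (HomogeneousLocalization.AtPrime 𝒜 p) (Localization.AtPrime p)) u : (HomogeneousLocalization.AtPrime 𝒜 p)[X] →+* (Localization.AtPrime p))).toAlgebra
  haveI : IsScalarTower (HomogeneousLocalization.AtPrime 𝒜 p) (HomogeneousLocalization.AtPrime 𝒜 p)[X] (Localization.AtPrime p) := IsScalarTower.of_algebraMap_eq fun r => (eval₂_C (algebraMap (HomogeneousLocalization.AtPrime 𝒜 p) (Localization.AtPrime p)) u).symm
  haveI := isLocalization_polynomial 𝒜 p hf hfp hg hgp u hu hinj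
  haveI : Module.Flat (HomogeneousLocalization.AtPrime 𝒜 p)[X] (Localization.AtPrime p) :=
    IsLocalization.flat (Localization.AtPrime p) ((IsUnit.submonoid (Localization.AtPrime p)).comap (eval₂RingHom (algebraMap (HomogeneousLocalization.AtPrime 𝒜 p) (Localization.AtPrime p)) u : (HomogeneousLocalization.AtPrime 𝒜 p)[X] →+* (Localization.AtPrime p)).toMonoidHom)
  exact Module.Flat.trans (HomogeneousLocalization.AtPrime 𝒜 p) (HomogeneousLocalization.AtPrime 𝒜 p)[X] (Localization.AtPrime p)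

include hf hg hgp hfp in
theorem isGorenstein [IsNoetherianRing A] (hd : 0 < d) (hG : LocCoh.IsGorensteinLocalRing (Localization.AtPrime p)) :
    LocCoh.IsGorensteinLocalRing (HomogeneousLocalization.AtPrime 𝒜 p) := by
  obtain ⟨v, hv⟩ := (isUnit_phi p hfp).exists_left_inv
  have hu : (algebraMap A (Localization.AtPrime p)) g * v * (algebraMap A (Localization.AtPrime p)) f = (algebraMap A (Localization.AtPrime p)) g := by rw [mul_assoc, hv, mul_one]
  have hgood := LA96.ProjStalk.goodSub_atPrime 𝒜 p hd hf hfp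
  haveI := flat 𝒜 p hf hfp hg hgp _ hu hgood.injective
  haveI := hgood.isLocalHom
  haveI := hgood.isNoetherianRing
  haveI := LC.isNoetherianRing_atPrime p
  exact ((LC.gorenstein_flat_local_iff (HomogeneousLocalization.AtPrime 𝒜 p) (Localization.AtPrime p)).mp hG).1

theorem exists_units (hsharp : ∃ d₀ : ℕ, ∀ d : ℕ, d₀ ≤ d → ∀ n : ℕ, 1 ≤ n →
      𝒜 ((n + 1) * d) = AddSubgroup.closure
        {z : A | ∃ a ∈ (𝒜 d : Set A), ∃ b ∈ (𝒜 (n * d) : Set A), a * b = z})
    {e : ℕ} {f₀ : A} (he : 0 < e) (hf₀ : f₀ ∈ 𝒜 e) (hf₀p : f₀ ∉ p) :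
    ∃ d f g, 0 < d ∧ f ∈ 𝒜 d ∧ f ∉ p ∧ g ∈ 𝒜 (d + 1) ∧ g ∉ p := by
  obtain ⟨d₀, hd₀⟩ := hsharp
  have key : ∀ n, d₀ ≤ n → ∃ a ∈ 𝒜 n, a ∉ p := by
    intro n hn
    by_contra! hall
    have h1 : f₀ ^ (2 * n) ∈ 𝒜 ((2 * e - 1 + 1) * n) := by
      rw [show (2 * e - 1 + 1) * n = (2 * n) * e by rw [show 2 * e - 1 + 1 = 2 * e by omega]; ring]
      simpa using SetLike.pow_mem_graded (2 * n) hf₀
    rw [hd₀ n hn (2 * e - 1) (by omega)] at h1
    exact hf₀p ((‹p.IsPrime›).mem_of_pow_mem _ (show f₀ ^ (2 * n) ∈ p.toAddSubgroup from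
      (AddSubgroup.closure_le _).mpr (by rintro _ ⟨a, ha, b, -, rfl⟩; exact p.mul_mem_right b (hall a ha)) h1))
  obtain ⟨f, hf, hfp⟩ := key (d₀ + 1) (by omega)
  obtain ⟨g, hg, hgp⟩ := key (d₀ + 2) (by omega)
  exact ⟨d₀ + 1, f, g, by omega, hf, hfp, hg, hgp⟩

end Groth.Agent.MiscTwoH99.ProjGor
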